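import Mathlib
import Cfsg.Prelude.Def_ClassicalGeometry
import Cfsg.Agent.Lib.Helper18.OmegaCenter
import Cfsg.Agent.Lib.Helper49.Transfer

set_option autoImplicit false

namespace Cfsg.Agent.Lib.Helper18.OmegaCenter

open QuadraticMap Module Matrix
open Cfsg.Agent.Lib.Helper49

variable {ι : Type} [Fintype ι] [DecidableEq ι] {F : Type*} [Field F] [Fintype F]
variable (Q : QuadraticForm F (ι → F))

/-- the matrix of an element of `Ω` -/
abbrev omat (z : ↥(Cfsg.Omega F ⇑Q)) : Matrix ι ι F :=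
  (((z : ↥(Cfsg.isometryGroup F ⇑Q)) : Matrix.GeneralLinearGroup ι F) : Matrix ι ι F)

theorem omat_injective : Function.Injective (omat Q) := by
  intro a b h
  exact Subtype.ext (isometryGroup_ext h)

theorem center_mat (hQ : (polarBilin Q).Nondegenerate) {e f : Fin 3 → (ι → F)}
    (h : Frame3 Q e f) (z : ↥(Cfsg.Omega F ⇑Q)) (hz : z ∈ Subgroup.center ↥(Cfsg.Omega F ⇑Q)) :
    omat Q z = 1 ∨ omat Q z = -1 := by
  have hz' : ∀ k ∈ commutator (OG Q), isoEquiv Q z.1 * k = k * isoEquiv Q z.1 := by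
    intro k hk
    obtain ⟨k', rfl⟩ := (isoEquiv Q).surjective k
    have hk' : k' ∈ Cfsg.Omega F ⇑Q := (mem_Omega_iff Q k').2 hk
    have := (Subgroup.mem_center_iff.1 hz) ⟨k', hk'⟩
    have h2 : k' * z.1 = z.1 * k' := congrArg Subtype.val this
    rw [← map_mul, ← map_mul, h2]
  obtain ⟨l, hl, hx⟩ := scalar_of_centralizes hQ h (isoEquiv Q z.1) hz'
  have hl' : l = 1 ∨ l = -1 := sq_eq_one_iff.1 hl
  rcases hl' with rfl | rfl
  · left
    apply Matrix.mulVec_injective
    funext x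
    have := hx x
    rw [isoEquiv_apply] at this
    rw [this]; simp
  · right
    apply Matrix.mulVec_injective
    funext x
    have := hx x
    rw [isoEquiv_apply] at this
    rw [this]; simp [Matrix.neg_mulVec]

theorem card_center_eq_one (hQ : (polarBilin Q).Nondegenerate) {e f : Fin 3 → (ι → F)}
    (h : Frame3 Q e f)
    (hneg : (2 : F) = 0 ∨ ¬ ∃ g : ↥(Cfsg.isometryGroup F ⇑Q), g ∈ Cfsg.Omega F ⇑Q ∧
      ((g : Matrix.GeneralLinearGroup ι F) : Matrix ι ι F) = -1) :
    Nat.card (Subgroup.center ↥(Cfsg.Omega F ⇑Q)) = 1 := by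
  rw [Subgroup.card_eq_one, Subgroup.eq_bot_iff_forall]
  intro z hz
  rcases center_mat Q hQ h z hz with h1 | h1
  · apply omat_injective Q
    rw [h1]; rfl
  · rcases hneg with h2 | h2
    · apply omat_injective Q
      rw [h1]
      have : (-1 : F) = 1 := by linear_combination -h2
      have h3 : (-1 : Matrix ι ι F) = 1 := by
        ext i j
        by_cases hij : i = j
        · subst hij; simp [this]
        · simp [hij]
      rw [h3]; rfl
    · exact absurd ⟨z.1, z.2, h1⟩ h2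

theorem card_center_eq_two [Nonempty ι] (hQ : (polarBilin Q).Nondegenerate)
    {e f : Fin 3 → (ι → F)} (h : Frame3 Q e f) (h2 : (2 : F) ≠ 0)
    (hneg : ∃ g : ↥(Cfsg.isometryGroup F ⇑Q), g ∈ Cfsg.Omega F ⇑Q ∧
      ((g : Matrix.GeneralLinearGroup ι F) : Matrix ι ι F) = -1) :
    Nat.card (Subgroup.center ↥(Cfsg.Omega F ⇑Q)) = 2 := by
  obtain ⟨g, hg, hg1⟩ := hneg
  have hgc : (⟨g, hg⟩ : ↥(Cfsg.Omega F ⇑Q)) ∈ Subgroup.center ↥(Cfsg.Omega F ⇑Q) := by
    rw [Subgroup.mem_center_iff]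
    intro k
    apply omat_injective Q
    show omat Q k * omat Q ⟨g, hg⟩ = omat Q ⟨g, hg⟩ * omat Q k
    have : omat Q ⟨g, hg⟩ = -1 := hg1
    rw [this]; simp
  rw [Nat.card_eq_two_iff]
  refine ⟨1, ⟨⟨g, hg⟩, hgc⟩, ?_, ?_⟩
  · intro h0
    have h3 : omat Q 1 = omat Q ⟨g, hg⟩ := congrArg (fun z => omat Q z.1) h0
    have h4 : omat Q ⟨g, hg⟩ = -1 := hg1
    have h5 : omat Q 1 = 1 := rfl
    rw [h4, h5] at h3
    have i := Classical.arbitrary ι
    have h6 := congrFun (congrFun h3 i) i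
    simp only [Matrix.one_apply_eq, Matrix.neg_apply] at h6
    apply h2
    linear_combination h6
  · ext z
    simp only [Set.mem_insert_iff, Set.mem_singleton_iff, Set.mem_univ, iff_true]
    rcases center_mat Q hQ h z.1 z.2 with h1 | h1
    · left
      apply Subtype.ext
      apply omat_injective Q
      rw [h1]; rfl
    · right
      apply Subtype.ext
      apply omat_injective Q
      rw [h1]; exact hg1.symm

/-- `|O(Q)| = |PΩ(Q)| · |Z(Ω)| · [O : Ω]` -/
theorem card_isometryGroup_eq :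
    Nat.card ↥(Cfsg.isometryGroup F ⇑Q) = Nat.card (Cfsg.POmega F ⇑Q) *
      Nat.card (Subgroup.center ↥(Cfsg.Omega F ⇑Q)) * (Cfsg.Omega F ⇑Q).index := by
  rw [← Subgroup.card_eq_card_quotient_mul_card_subgroup, Subgroup.card_mul_index]

/-- elements of `Ω` have determinant one -/
theorem det_of_mem_Omega (g : ↥(Cfsg.isometryGroup F ⇑Q)) (hg : g ∈ Cfsg.Omega F ⇑Q) :
    ((g : Matrix.GeneralLinearGroup ι F) : Matrix ι ι F).det = 1 := by
  let φ : ↥(Cfsg.isometryGroup F ⇑Q) →* Fˣ :=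
    (Matrix.GeneralLinearGroup.det).comp (Subgroup.subtype _)
  have h1 : g ∈ φ.ker := Abelianization.commutator_subset_ker φ hg
  have h2 : φ g = 1 := h1
  have h3 := congrArg Units.val h2
  simpa [φ] using h3

end Cfsg.Agent.Lib.Helper18.OmegaCenter
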