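import Mathlib
import Cfsg.Prelude.Def_ClassicalGeometry
import Cfsg.Agent.Lib.Helper18.OmegaCenterMat
import Cfsg.Agent.Lib.Helper49.StdForms

set_option autoImplicit false

namespace Cfsg.Agent.Lib.Helper18.OmegaCenter

open QuadraticMap Module Matrix
open Cfsg.Agent.Lib.Helper49

variable {F : Type*} [Field F]

theorem frame_plus (m : ℕ) (hm : 3 ≤ m) :
    Frame3 (plusQF m F) (fun i => Pi.single (Sum.inl (Fin.castLE hm i)) 1)
      (fun i => Pi.single (Sum.inr (Fin.castLE hm i)) 1) where
  Qe i := by rw [plusQF_coe]; simp [Cfsg.quadFormPlus]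
  Qf i := by rw [plusQF_coe]; simp [Cfsg.quadFormPlus]
  ef i j := by
    rw [plusQF_coe, polar_quadFormPlus]
    simp [Pi.single_apply, eq_comm]
  ee i j := by
    rw [plusQF_coe, polar_quadFormPlus]
    simp [Pi.single_apply]
  ff i j := by
    rw [plusQF_coe, polar_quadFormPlus]
    simp [Pi.single_apply]

theorem frame_odd (m : ℕ) (hm : 3 ≤ m) :
    Frame3 (oddQF m F) (fun i => Pi.single (Sum.inr (Sum.inl (Fin.castLE hm i))) 1)
      (fun i => Pi.single (Sum.inr (Sum.inr (Fin.castLE hm i))) 1) where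
  Qe i := by rw [oddQF_coe]; simp [Cfsg.quadFormOdd]
  Qf i := by rw [oddQF_coe]; simp [Cfsg.quadFormOdd]
  ef i j := by
    rw [oddQF_coe, polar_quadFormOdd]
    simp [Pi.single_apply, eq_comm]
  ee i j := by
    rw [oddQF_coe, polar_quadFormOdd]
    simp [Pi.single_apply]
  ff i j := by
    rw [oddQF_coe, polar_quadFormOdd]
    simp [Pi.single_apply]

theorem frame_minus (m : ℕ) (hm : 3 ≤ m) (a b : F) :
    Frame3 (minusQF m F a b) (fun i => Pi.single (Sum.inl (Sum.inl (Fin.castLE hm i))) 1)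
      (fun i => Pi.single (Sum.inl (Sum.inr (Fin.castLE hm i))) 1) where
  Qe i := by rw [minusQF_coe]; simp [Cfsg.quadFormMinus]
  Qf i := by rw [minusQF_coe]; simp [Cfsg.quadFormMinus]
  ef i j := by
    rw [minusQF_coe, polar_quadFormMinus]
    simp [Pi.single_apply, eq_comm]
  ee i j := by
    rw [minusQF_coe, polar_quadFormMinus]
    simp [Pi.single_apply]
  ff i j := by
    rw [minusQF_coe, polar_quadFormMinus]
    simp [Pi.single_apply]

end Cfsg.Agent.Lib.Helper18.OmegaCenter
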