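import Mathlib
import Cfsg.Agent.Lib.Helper99.SP8.Defs
import Cfsg.Agent.Lib.Helper99.PGB.Defs
import Cfsg.Agent.Lib.Helper48.SpProj
import Cfsg.Agent.Lib.Helper18.SP8PFWD

set_option autoImplicit false

universe u

namespace Cfsg.Agent.Lib.Helper18.SP8

open Module LinearMap QuadraticMap Cfsg.Agent.Lib.Helper48 Cfsg.Agent.Lib.Helper17 Cfsg.Agent.Lib.Helper99.SP8
  Cfsg.Agent.Lib.Helper99.PGB

/-- PBACK -/
theorem psp_back {F : Type u} [Field F] [Fintype F] [CharP F 2] {n K : ℕ} (h : AR F (2 * n) K) :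
    ∃ y : Cfsg.PSp n F, orderOf y = K := by
  obtain ⟨V, _, _, _, S, T, hd, hs, hn, hi, ho⟩ := h
  obtain ⟨A, hA⟩ := exists_sp_of_isoB S hs hn hd T hi
  refine ⟨QuotientGroup.mk A, ?_⟩
  have key : ∀ j, orderOf (QuotientGroup.mk A : Cfsg.PSp n F) ∣ j ↔ K ∣ j := by
    intro j
    rw [orderOf_mk_sp_dvd_iff, (hA j).1, (hA j).2, pfwd_neg_one, or_self, ho]
  exact Nat.dvd_antisymm ((key _).2 dvd_rfl) ((key _).1 dvd_rfl)

end Cfsg.Agent.Lib.Helper18.SP8
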