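import Mathlib
import Cfsg.Agent.Lib.Helper99.SP8.Defs
import Cfsg.Agent.Lib.Helper99.PGB.Defs
import Cfsg.Agent.Lib.Helper50.QuadIso

set_option autoImplicit false

universe u

namespace Cfsg.Agent.Lib.Helper18.SP8

open Module LinearMap QuadraticMap Cfsg.Agent.Lib.Helper48 Cfsg.Agent.Lib.Helper17 Cfsg.Agent.Lib.Helper99.SP8
  Cfsg.Agent.Lib.Helper99.PGB Cfsg.Agent.Lib.Helper50.Quad

/-- transport of an isometry of exact order `K` to the isometry group of a function on `ι → F`. -/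
theorem std_transport {F : Type*} [Field F] {V : Type*} [AddCommGroup V] [Module F V]
    {ι : Type} [Fintype ι] [DecidableEq ι] (Q : V → F) (Q' : (ι → F) → F)
    (g : V ≃ₗ[F] (ι → F)) (hg : ∀ v, Q' (g v) = Q v) (T : End F V) (hT : ∀ v, Q (T v) = Q v)
    {K : ℕ} (hK : 0 < K) (hord : ∀ j, T ^ j = 1 ↔ K ∣ j) :
    ∃ x : ↥(Cfsg.isometryGroup F Q'), orderOf x = K := by
  let E : End F V ≃+* Matrix ι ι F :=
    g.conjRingEquiv.trans (LinearMap.toMatrixAlgEquiv' (R := F) (n := ι)).toRingEquiv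
  have hE : ∀ (S : End F V) (u : ι → F), (E S).mulVec u = g (S (g.symm u)) := by
    intro S u
    show (LinearMap.toMatrix' (g.conjRingEquiv S)).mulVec u = _
    rw [LinearMap.toMatrix'_mulVec]
    rfl
  have hTK : (E T) ^ K = 1 := by rw [← map_pow, (hord K).2 dvd_rfl, map_one]
  let M : Matrix.GeneralLinearGroup ι F := Units.ofPowEqOne (E T) K hTK hK.ne'
  have hM : (M : Matrix ι ι F) = E T := rfl
  have hmem : M ∈ Cfsg.isometryGroup F Q' := by
    rw [Cfsg.Agent.Lib.Helper50.Quad.mem_isometryGroup_iff]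
    intro u
    rw [hM, hE, hg, hT, ← hg, LinearEquiv.apply_symm_apply]
  refine ⟨⟨M, hmem⟩, ?_⟩
  have key : ∀ j, (⟨M, hmem⟩ : ↥(Cfsg.isometryGroup F Q')) ^ j = 1 ↔ K ∣ j := by
    intro j
    rw [← hord j, ← Subtype.coe_inj, ← Units.val_inj]
    show (M : Matrix ι ι F) ^ j = 1 ↔ _
    rw [hM, ← map_pow]
    exact ⟨fun h => E.injective (by rw [h, map_one]), fun h => by rw [h, map_one]⟩
  exact Nat.dvd_antisymm (orderOf_dvd_iff_pow_eq_one.2 ((key K).2 dvd_rfl))
    ((key _).1 (pow_orderOf_eq_one _))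

/-- STD -/
theorem std_minus {F : Type u} [Field F] [Fintype F] (a b : F)
    (han : ∀ z₁ z₂ : F, z₁ ^ 2 + a * z₁ * z₂ + b * z₂ ^ 2 = 0 → z₁ = 0 ∧ z₂ = 0) {K : ℕ}
    (hK : 0 < K) (h : QT F false 4 K) :
    ∃ g : ↥(Cfsg.isometryGroup F (Cfsg.quadFormMinus 3 F a b)), orderOf g = K := by
  obtain ⟨V, _, _, _, Q, T, ⟨hdim, hnd, hN⟩, hT, hord⟩ := h
  have hQ : Nondeg Q ⊤ := by
    intro w _ hw
    by_contra hcon
    push Not at hcon
    exact hw (hnd w (fun y => hcon y trivial))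
  rcases classify_even a b han 3 hdim hQ with ⟨g, hg⟩ | ⟨g, hg⟩
  · exfalso
    have h1 := card_sing_congr g hg
    have h2 := card_sing_plus (F := F) 3
    rw [← h1] at h2
    simp only [cond_false] at hN
    have hq : 1 < Fintype.card F := Fintype.one_lt_card
    set q := Fintype.card F
    set N := Nat.card {v : V // Q v = 0}
    have h3 : q * N + q ^ 4 = q ^ 8 + q ^ 5 := by
      have : q * (N + q ^ 3) = q * (q ^ (2 * 3 + 1) + q ^ (3 + 1)) := by rw [h2]
      ring_nf at this ⊢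
      exact this
    have h4 : q ^ 4 < q ^ 5 := Nat.pow_lt_pow_right hq (by norm_num)
    norm_num at hN
    omega
  · apply std_transport (fun v => Q v) (Cfsg.quadFormMinus 3 F a b) g ?_ T hT hK hord
    intro v
    rw [← hg v, Qgen_apply, T2_apply]
    unfold Cfsg.quadFormMinus
    ring

end Cfsg.Agent.Lib.Helper18.SP8
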